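import Groth.Agent.Lib.HHfpLoc4.Basic
import Mathlib.Algebra.TrivSqZeroExt.Basic

/-!
# The sheaf property of henselizations with coefficients in a module
-/

set_option autoImplicit false

universe u

open scoped TensorProduct
open GrothLib.HHfpLoc4

noncomputable section

namespace GrothLib.HSphMod4

variable {S : Type u} [CommRing S] {J : Ideal S}

theorem away_of_isHA {T H : Type u} [CommRing T] [Algebra S T] [CommRing H] [Algebra T H] {x : T}
    (h : IsHA J x (algebraMap T H)) [Algebra (Localization.Away x) H] [IsScalarTower T (Localization.Away x) H] :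
    Hens2.IsPairHenselization (Localization.Away x)
      ((J.map (algebraMap S T)).map (algebraMap T (Localization.Away x))) H := by
  refine ⟨?_, fun C _ J' g hC hg => ?_⟩
  · rw [Ideal.map_map, ← IsScalarTower.algebraMap_eq, Ideal.map_map]
    exact h.hens
  obtain ⟨k, hk, hu⟩ := h.univ C J' (g.comp (algebraMap T _)) hC
    (by rw [← Ideal.map_map, ← Ideal.map_map]; exact hg) ((IsLocalization.Away.algebraMap_isUnit x).map g)
  refine ⟨k, IsLocalization.ringHom_ext (Submonoid.powers x) ?_, fun k' hk' => hu k' ?_⟩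
  · rw [RingHom.comp_assoc, ← IsScalarTower.algebraMap_eq]; exact hk
  · show k'.comp (algebraMap T H) = g.comp (algebraMap T (Localization.Away x))
    rw [IsScalarTower.algebraMap_eq T (Localization.Away x) H, ← RingHom.comp_assoc, hk']

/-- Henselization commutes with integral base change. -/
theorem isHA_tensor {A B C H : Type u} [CommRing A] [CommRing B] [Algebra A B] [CommRing C] [Algebra A C]
    [Algebra B C] [IsScalarTower A B C] [Algebra.IsIntegral B C] [CommRing H] [Algebra B H] {I : Ideal A} {x : B}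
    (h : IsHA I x (algebraMap B H)) :
    IsHA I (algebraMap B C x) ((Algebra.TensorProduct.includeRight : C →ₐ[B] H ⊗[B] C).toRingHom) := by
  let iR : C →ₐ[B] H ⊗[B] C := Algebra.TensorProduct.includeRight
  let iL : H →+* H ⊗[B] C := Algebra.TensorProduct.includeLeftRingHom
  have hLR : iR.toRingHom.comp (algebraMap B C) = iL.comp (algebraMap B H) := RingHom.ext fun b => by
    show (1 : H) ⊗ₜ[B] algebraMap B C b = algebraMap B H b ⊗ₜ[B] (1 : C)
    rw [Algebra.algebraMap_eq_smul_one, Algebra.algebraMap_eq_smul_one, TensorProduct.smul_tmul]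
  have hA : iR.toRingHom.comp (algebraMap A C) = iL.comp ((algebraMap B H).comp (algebraMap A B)) := by
    rw [IsScalarTower.algebraMap_eq A B C, ← RingHom.comp_assoc, hLR, RingHom.comp_assoc]
  constructor
  · rw [← RingHom.comp_apply, hLR]; exact h.unit.map iL
  · haveI := h.hens
    haveI : Algebra.IsIntegral H (H ⊗[B] C) := Algebra.IsIntegral.tensorProduct B H C
    have := GrothLib.Hensel.henselianRing_of_isIntegral (I.map ((algebraMap B H).comp (algebraMap A B))) (H ⊗[B] C)
    rw [Ideal.map_map] at this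
    rw [show iR.toRingHom.comp (algebraMap A C) = (algebraMap H (H ⊗[B] C)).comp ((algebraMap B H).comp (algebraMap A B)) from hA]
    exact this
  · intro D _ J' g hD hg hx
    obtain ⟨k, hk⟩ := h.exists_map J' (g.comp (algebraMap B C)) hD
      (by rw [RingHom.comp_assoc, ← IsScalarTower.algebraMap_eq]; exact hg) hx
    letI : Algebra B D := (g.comp (algebraMap B C)).toAlgebra
    let Φ : H ⊗[B] C →ₐ[B] D := Algebra.TensorProduct.lift (⟨k, RingHom.congr_fun hk⟩ : H →ₐ[B] D)
      (⟨g, fun _ => rfl⟩ : C →ₐ[B] D) fun _ _ => Commute.all _ _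
    have hΦR : ∀ c, Φ (1 ⊗ₜ c) = g c := fun c => by
      rw [Algebra.TensorProduct.lift_tmul, map_one, one_mul]; rfl
    refine ⟨Φ.toRingHom, RingHom.ext hΦR, fun Ψ hΨ => ?_⟩
    have hk' : Ψ.comp iL = k := by
      have e : (Ψ.comp iL).comp (algebraMap B H) = g.comp (algebraMap B C) := by
        rw [RingHom.comp_assoc, ← hLR, ← RingHom.comp_assoc, hΨ]
      refine h.ext J' hD ?_ (e.trans hk.symm)
      rw [e, RingHom.comp_assoc, ← IsScalarTower.algebraMap_eq]; exact hg
    refine RingHom.ext fun z => ?_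
    induction z with
    | zero => simp only [map_zero]
    | add p q hp hq => simp only [map_add, hp, hq]
    | tmul a c =>
      rw [show (a ⊗ₜ[B] c) = iL a * iR c by
        show a ⊗ₜ[B] c = (a ⊗ₜ[B] (1 : C)) * ((1 : H) ⊗ₜ[B] c)
        rw [Algebra.TensorProduct.tmul_mul_tmul, mul_one, one_mul]]
      rw [map_mul, map_mul]
      show (Ψ.comp iL) a * (Ψ.comp iR.toRingHom) c = Φ (a ⊗ₜ 1) * Φ (1 ⊗ₜ c)
      rw [hk', show Ψ.comp iR.toRingHom = g from hΨ, hΦR, Algebra.TensorProduct.lift_tmul, map_one, mul_one]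
      rfl

section glue

variable [HenselianRing S J] {ι : Type u} (g : ι → S) (hcov : J ⊔ Ideal.span (Set.range g) = ⊤)
  {Sk : ι → Type u} [∀ k, CommRing (Sk k)] [∀ k, Algebra S (Sk k)]
  (hk : ∀ k, IsHA J (g k) (algebraMap S (Sk k)))
  (N : Type u) [AddCommGroup N] [Module S N]

/-- The square-zero extension. -/
abbrev TS : Type u :=
  letI : Module Sᵐᵒᵖ N := Module.compHom N ((RingHom.id S).fromOpposite mul_comm)
  haveI : IsCentralScalar S N := ⟨fun _ _ => rfl⟩
  TrivSqZeroExt S N

local instance : Module Sᵐᵒᵖ N := Module.compHom N ((RingHom.id S).fromOpposite mul_comm)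
local instance : IsCentralScalar S N := ⟨fun _ _ => rfl⟩

theorem isIntegral_TS : Algebra.IsIntegral S (TrivSqZeroExt S N) := ⟨fun y => by
  refine ⟨(Polynomial.X - Polynomial.C y.fst) ^ 2, (Polynomial.monic_X_sub_C _).pow 2, ?_⟩
  rw [Polynomial.eval₂_pow, Polynomial.eval₂_sub, Polynomial.eval₂_X, Polynomial.eval₂_C]
  refine TrivSqZeroExt.ext ?_ ?_
  · simp [pow_two, TrivSqZeroExt.algebraMap_eq_inl]
  · simp [pow_two, TrivSqZeroExt.algebraMap_eq_inl]⟩

include hcov hk in
theorem eq_zero_of_forall (x : N) (hx : ∀ k, (1 : Sk k) ⊗ₜ[S] x = 0) : x = 0 := by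
  haveI := isIntegral_TS (S := S) N
  let T := TrivSqZeroExt S N
  let gT : ι → T := fun k => algebraMap S T (g k)
  have hHA : ∀ k, IsHA J (gT k)
      ((Algebra.TensorProduct.includeRight : T →ₐ[S] Sk k ⊗[S] T).toRingHom) := fun k => isHA_tensor (hk k)
  letI : ∀ k, Algebra T (Sk k ⊗[S] T) := fun k =>
    (Algebra.TensorProduct.includeRight : T →ₐ[S] Sk k ⊗[S] T).toRingHom.toAlgebra
  letI : ∀ k, Algebra (Localization.Away (gT k)) (Sk k ⊗[S] T) := fun k =>
    (IsLocalization.Away.lift (gT k) (g := algebraMap T (Sk k ⊗[S] T)) (hHA k).unit).toAlgebra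
  haveI : ∀ k, IsScalarTower T (Localization.Away (gT k)) (Sk k ⊗[S] T) := fun k =>
    IsScalarTower.of_algebraMap_eq (R := T) (S := Localization.Away (gT k)) (A := Sk k ⊗[S] T) fun t => (IsLocalization.Away.lift_eq (gT k) (hHA k).unit t).symm
  have hJT : Hens2.IsPairHenselization T (J.map (algebraMap S T)) T := by
    refine ⟨by rw [Algebra.algebraMap_self, Ideal.map_id]; exact GrothLib.Hensel.henselianRing_of_isIntegral J T,
      fun C _ J' k _ _ => ⟨k, rfl, fun k' hk' => hk'⟩⟩
  have hcovT : J.map (algebraMap S T) ⊔ Ideal.span (Set.range gT) = ⊤ := by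
    have h := congrArg (Ideal.map (algebraMap S T)) hcov
    rw [Ideal.map_sup, Ideal.map_span, ← Set.range_comp, Ideal.map_top] at h
    exact h
  have h := GrothLib.HSheaf4.eq_of_forall (J.map (algebraMap S T)) gT hcovT hJT
    (fun k => away_of_isHA (hHA k)) (fun k => Algebra.ofId T (Sk k ⊗[S] T))
    (TrivSqZeroExt.inr x) 0 fun k => by
      show (1 : Sk k) ⊗ₜ[S] (TrivSqZeroExt.inr x : T) = (1 : Sk k) ⊗ₜ[S] (0 : T)
      rw [TensorProduct.tmul_zero, show (1 : Sk k) ⊗ₜ[S] (TrivSqZeroExt.inr x : T) =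
        LinearMap.lTensor (Sk k) (TrivSqZeroExt.inrHom S N) ((1 : Sk k) ⊗ₜ[S] x) from rfl, hx, map_zero]
  exact congrArg TrivSqZeroExt.snd h

variable {Skl : ι → ι → Type u} [∀ k l, CommRing (Skl k l)] [∀ k l, Algebra S (Skl k l)]
  (hkl : ∀ k l, IsHA J (g k * g l) (algebraMap S (Skl k l)))
  (r₁ : ∀ k l, Sk k →ₐ[S] Skl k l) (r₂ : ∀ k l, Sk l →ₐ[S] Skl k l)

include hcov hk hkl in
theorem exists_glued (s : ∀ k, Sk k ⊗[S] N)
    (hs : ∀ k l, LinearMap.rTensor N (r₁ k l).toLinearMap (s k) = LinearMap.rTensor N (r₂ k l).toLinearMap (s l)) :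
    ∃ x : N, ∀ k, (1 : Sk k) ⊗ₜ[S] x = s k := by
  haveI := isIntegral_TS (S := S) N
  let T := TrivSqZeroExt S N
  let gT : ι → T := fun k => algebraMap S T (g k)
  have hHA : ∀ k, IsHA J (gT k)
      ((Algebra.TensorProduct.includeRight : T →ₐ[S] Sk k ⊗[S] T).toRingHom) := fun k => isHA_tensor (hk k)
  have hHA2 : ∀ k l, IsHA J (gT k * gT l)
      ((Algebra.TensorProduct.includeRight : T →ₐ[S] Skl k l ⊗[S] T).toRingHom) := fun k l => by
    have := isHA_tensor (C := T) (hkl k l)
    rwa [map_mul] at this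
  letI : ∀ k, Algebra T (Sk k ⊗[S] T) := fun k =>
    (Algebra.TensorProduct.includeRight : T →ₐ[S] Sk k ⊗[S] T).toRingHom.toAlgebra
  letI : ∀ k l, Algebra T (Skl k l ⊗[S] T) := fun k l =>
    (Algebra.TensorProduct.includeRight : T →ₐ[S] Skl k l ⊗[S] T).toRingHom.toAlgebra
  letI : ∀ k, Algebra (Localization.Away (gT k)) (Sk k ⊗[S] T) := fun k =>
    (IsLocalization.Away.lift (gT k) (g := algebraMap T (Sk k ⊗[S] T)) (hHA k).unit).toAlgebra
  letI : ∀ k l, Algebra (Localization.Away (gT k * gT l)) (Skl k l ⊗[S] T) := fun k l =>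
    (IsLocalization.Away.lift (gT k * gT l) (g := algebraMap T (Skl k l ⊗[S] T)) (hHA2 k l).unit).toAlgebra
  haveI : ∀ k, IsScalarTower T (Localization.Away (gT k)) (Sk k ⊗[S] T) := fun k =>
    IsScalarTower.of_algebraMap_eq (R := T) (S := Localization.Away (gT k)) (A := Sk k ⊗[S] T) fun t => (IsLocalization.Away.lift_eq (gT k) (hHA k).unit t).symm
  haveI : ∀ k l, IsScalarTower T (Localization.Away (gT k * gT l)) (Skl k l ⊗[S] T) := fun k l =>
    IsScalarTower.of_algebraMap_eq (R := T) (S := Localization.Away (gT k * gT l)) (A := Skl k l ⊗[S] T) fun t =>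
      (IsLocalization.Away.lift_eq (gT k * gT l) (hHA2 k l).unit t).symm
  have hJT : Hens2.IsPairHenselization T (J.map (algebraMap S T)) T := by
    refine ⟨by rw [Algebra.algebraMap_self, Ideal.map_id]; exact GrothLib.Hensel.henselianRing_of_isIntegral J T,
      fun C _ J' k _ _ => ⟨k, rfl, fun k' hk' => hk'⟩⟩
  have hcovT : J.map (algebraMap S T) ⊔ Ideal.span (Set.range gT) = ⊤ := by
    have h := congrArg (Ideal.map (algebraMap S T)) hcov
    rw [Ideal.map_sup, Ideal.map_span, ← Set.range_comp, Ideal.map_top] at h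
    exact h
  let σ : ∀ k l, Sk k ⊗[S] T →ₐ[T] Skl k l ⊗[S] T := fun k l =>
    { Algebra.TensorProduct.map (r₁ k l) (AlgHom.id S T) with
      commutes' := fun t => by
        show r₁ k l 1 ⊗ₜ[S] t = 1 ⊗ₜ[S] t
        rw [map_one] }
  let τ : ∀ k l, Sk l ⊗[S] T →ₐ[T] Skl k l ⊗[S] T := fun k l =>
    { Algebra.TensorProduct.map (r₂ k l) (AlgHom.id S T) with
      commutes' := fun t => by
        show r₂ k l 1 ⊗ₜ[S] t = 1 ⊗ₜ[S] t
        rw [map_one] }
  let e : ∀ k, Sk k ⊗[S] N →ₗ[S] Sk k ⊗[S] T := fun k => LinearMap.lTensor (Sk k) (TrivSqZeroExt.inrHom S N)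
  have hnat₁ : ∀ k l z, σ k l (e k z) =
      LinearMap.lTensor (Skl k l) (TrivSqZeroExt.inrHom S N) (LinearMap.rTensor N (r₁ k l).toLinearMap z) :=
    fun k l z => by
      induction z with
      | zero => simp only [map_zero]
      | add p q hp hq => simp only [map_add, hp, hq]
      | tmul a n => rfl
  have hnat₂ : ∀ k l z, τ k l (e l z) =
      LinearMap.lTensor (Skl k l) (TrivSqZeroExt.inrHom S N) (LinearMap.rTensor N (r₂ k l).toLinearMap z) :=
    fun k l z => by
      induction z with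
      | zero => simp only [map_zero]
      | add p q hp hq => simp only [map_add, hp, hq]
      | tmul a n => rfl
  obtain ⟨x, hx⟩ := GrothLib.HSheaf4.exists_glued (J.map (algebraMap S T)) gT hcovT hJT
    (fun k => away_of_isHA (hHA k)) (fun k l => away_of_isHA (hHA2 k l))
    (fun k => Algebra.ofId T (Sk k ⊗[S] T)) σ τ (fun k => e k (s k))
    (fun k l => by rw [hnat₁, hnat₂, hs])
  refine ⟨x.snd, fun k => ?_⟩
  let p : T →ₗ[S] N := TrivSqZeroExt.sndHom S N
  have hpe : ∀ z, LinearMap.lTensor (Sk k) p (e k z) = z := fun z => by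
    show LinearMap.lTensor (Sk k) p (LinearMap.lTensor (Sk k) (TrivSqZeroExt.inrHom S N) z) = z
    induction z with
    | zero => simp only [map_zero]
    | add a b ha hb => simp only [map_add, ha, hb]
    | tmul a n => rfl
  have := congrArg (LinearMap.lTensor (Sk k) p) (hx k)
  rw [hpe] at this
  exact this

end glue

end GrothLib.HSphMod4
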