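import Groth.Agent.Lib.HensFlat4.Faithful
import Groth.Agent.Lib.HensSpec.Sections
import Mathlib.RingTheory.TensorProduct.Maps

/-!
# Sections of `M~` on an affine Henselian spectrum: the map from `O(D f) ⊗ M` is locally injective
-/

set_option autoImplicit false
set_option maxHeartbeats 800000
set_option backward.isDefEq.respectTransparency false

universe u

open CategoryTheory Opposite TopologicalSpace AlgebraicGeometry TensorProduct

noncomputable section

namespace GrothLib.HSphMod4

open GrothLib.HensSpec GrothLib.PullLoc25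

variable {A : Type u} [CommRing A] {X : LocallyRingedSpace.{u}} (π : X ⟶ HensSch.specLRS A) (M : ModuleCat.{u} A)

/-- Sections over a distinguished open. -/
abbrev SS (f : A) : Type u := Sec X (HensSch.dOpen π f)

/-- Its algebra structure. -/
@[instance_reducible] def algSS (f : A) : Algebra A (SS π f) :=
  (HensSch.secMap π (PrimeSpectrum.basicOpen f)).toAlgebra

attribute [local instance] algSS

/-- The sheaf. -/
abbrev FF : ModSite.Mod X.sheaf := HensSch.sphTilde π M

/-- The sections of `M~` on `Spec A`. -/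
abbrev TM : (Spec (CommRingCat.of A)).Modules := tilde M

/-- An element as a global section of `M~`. -/
def mΓ (m : M) : Γ(TM M, ⊤) := ((tilde.adjunction (R := CommRingCat.of A)).unit.app M).hom m

/-- An element as a section over a distinguished open. -/
def mS (f : A) (m : M) : ModSite.sect (FF π M) (HensSch.dOpen π f) :=
  FlatRel25.res (FF π M) ((Opens.map π.base).map (homOfLE (le_top : PrimeSpectrum.basicOpen f ≤ ⊤)))
    (pullSec (HensSch.rmor π) (TM M) (U := (⊤ : Opens (PrimeSpectrum A))) (mΓ M m))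

theorem mΓ_add (m m' : M) : mΓ M (m + m') = mΓ M m + mΓ M m' :=
  map_add ((tilde.adjunction (R := CommRingCat.of A)).unit.app M).hom m m'

theorem mΓ_smul (a : A) (m : M) :
    mΓ M (a • m) = (Scheme.ΓSpecIso (CommRingCat.of A)).inv.hom a • mΓ M m :=
  ((tilde.adjunction (R := CommRingCat.of A)).unit.app M).hom.map_smul a m

theorem mS_add (f : A) (m m' : M) : mS π M f (m + m') = mS π M f m + mS π M f m' := by
  simp only [mS, mΓ_add]
  rw [← map_add]
  exact congrArg _ (map_add (((HensSch.rmor π).adj.unit.app (TM M)).val.app (op (⊤ : Opens (PrimeSpectrum A)))).hom _ _)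

theorem mS_smul (f : A) (a : A) (m : M) :
    mS π M f (a • m) = algebraMap A (SS π f) a • mS π M f m := by
  rw [mS, mΓ_smul, pullSec_smul, FlatRel25.res_smul]
  rfl

/-- The comparison map. -/
def θ (f : A) : SS π f ⊗[A] M →+ ModSite.sect (FF π M) (HensSch.dOpen π f) :=
  TensorProduct.liftAddHom
    (AddMonoidHom.mk' (fun c => AddMonoidHom.mk' (fun m => c • mS π M f m) (fun m m' => by rw [mS_add, smul_add]))
      (fun c c' => AddMonoidHom.ext fun m => add_smul c c' (mS π M f m)))
    (fun a c m => by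
      show (a • c) • mS π M f m = c • mS π M f (a • m)
      rw [mS_smul, Algebra.smul_def, mul_comm, mul_smul])

theorem θ_tmul (f : A) (c : SS π f) (m : M) : θ π M f (c ⊗ₜ m) = c • mS π M f m := rfl

/-- Restriction as an algebra map. -/
def rr {f h : A} (hle : HensSch.dOpen π h ≤ HensSch.dOpen π f) : SS π f →ₐ[A] SS π h :=
  { res hle with
    commutes' := fun a => res_res _ hle _ }

theorem θ_res {f h : A} (hle : HensSch.dOpen π h ≤ HensSch.dOpen π f) (z : SS π f ⊗[A] M) :
    FlatRel25.res (FF π M) (homOfLE hle) (θ π M f z) = θ π M h (LinearMap.rTensor M (rr π hle).toLinearMap z) := by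
  induction z with
  | zero => simp only [map_zero]
  | add p q hp hq => simp only [map_add, hp, hq]
  | tmul c m =>
    rw [LinearMap.rTensor_tmul, θ_tmul, θ_tmul, FlatRel25.res_smul]
    refine congrArg (res hle c • ·) ?_
    rw [mS, mS, FlatRel25.res_res]
    exact congrArg (fun k => FlatRel25.res (FF π M) k _) (Subsingleton.elim _ _)

theorem isLocalized_toOpen' (R : CommRingCat.{u}) (N : ModuleCat.{u} R) (h : R) :
    IsLocalizedModule.Away h (tilde.toOpen N (PrimeSpectrum.basicOpen h)).hom := inferInstance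

theorem isLocalized_toOpen (h : A) : IsLocalizedModule (Submonoid.powers h)
    (tilde.toOpen (R := CommRingCat.of A) M (PrimeSpectrum.basicOpen (R := A) h)).hom :=
  isLocalized_toOpen' (CommRingCat.of A) M h

/-- `M_h → O(D h) ⊗ M`. -/
def Lh (h : A) (hu : IsUnit (algebraMap A (SS π h) h)) :
    ((modulesSpecToSheaf (R := CommRingCat.of A)).obj (tilde M)).presheaf.obj
      (op (PrimeSpectrum.basicOpen (R := A) h)) →ₗ[A] SS π h ⊗[A] M :=
  haveI : IsLocalizedModule (Submonoid.powers h)
      (tilde.toOpen (R := CommRingCat.of A) M (PrimeSpectrum.basicOpen (R := A) h)).hom :=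
    isLocalized_toOpen M h
  IsLocalizedModule.lift (Submonoid.powers h) (tilde.toOpen (R := CommRingCat.of A) M (PrimeSpectrum.basicOpen (R := A) h)).hom
    (TensorProduct.mk A (SS π h) M 1) (by
      rintro ⟨_, n, rfl⟩
      rw [Module.End.isUnit_iff]
      obtain ⟨v, hv⟩ := (hu.pow n).exists_left_inv
      rw [← map_pow] at hv
      have hcomm : ∀ (c : SS π h) (w : SS π h ⊗[A] M),
          c • (algebraMap A (SS π h) (h ^ n) • w) = (c * algebraMap A (SS π h) (h ^ n)) • w := fun c w =>
        (mul_smul _ _ w).symm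
      refine ⟨fun p q hpq => ?_, fun w => ⟨v • w, ?_⟩⟩
      · have h2 : algebraMap A (SS π h) (h ^ n) • p = algebraMap A (SS π h) (h ^ n) • q := by
          rw [algebraMap_smul, algebraMap_smul]; exact hpq
        have h3 := congrArg (v • ·) h2
        simp only [hcomm, hv, one_smul] at h3
        exact h3
      · show (h ^ n) • (v • w) = w
        rw [← algebraMap_smul (SS π h) (h ^ n) (v • w), ← mul_smul, mul_comm, hv, one_smul])

theorem Lh_toOpen (h : A) (hu : IsUnit (algebraMap A (SS π h) h)) (m : M) :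
    Lh π M h hu ((tilde.toOpen (R := CommRingCat.of A) M (PrimeSpectrum.basicOpen (R := A) h)).hom m) = 1 ⊗ₜ m :=
  haveI : IsLocalizedModule (Submonoid.powers h)
      (tilde.toOpen (R := CommRingCat.of A) M (PrimeSpectrum.basicOpen (R := A) h)).hom :=
    isLocalized_toOpen M h
  IsLocalizedModule.lift_apply (S := Submonoid.powers h) _ _ _ m

/-- `M(W) → O(D h) ⊗ M`. -/
def LW (h : A) (hu : IsUnit (algebraMap A (SS π h) h)) {W : (Spec (CommRingCat.of A)).Opens}
    (hW : PrimeSpectrum.basicOpen h ≤ W) : Γ(TM M, W) →+ SS π h ⊗[A] M :=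
  (Lh π M h hu).toAddMonoidHom.comp ((TM M).presheaf.map (homOfLE hW).op).hom

theorem LW_res (h : A) (hu : IsUnit (algebraMap A (SS π h) h)) {W W' : (Spec (CommRingCat.of A)).Opens}
    (hW : PrimeSpectrum.basicOpen h ≤ W) (a : W ⟶ W') (n : Γ(TM M, W')) :
    LW π M h hu hW ((TM M).presheaf.map a.op n) = LW π M h hu (hW.trans (leOfHom a)) n := by
  refine congrArg (Lh π M h hu) ?_
  exact (ConcreteCategory.congr_hom ((TM M).presheaf.map_comp a.op (homOfLE hW).op) n).symm

theorem LW_smul (h : A) (hu : IsUnit (algebraMap A (SS π h) h)) {W : (Spec (CommRingCat.of A)).Opens}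
    (hW : PrimeSpectrum.basicOpen h ≤ W) (hle : HensSch.dOpen π h ≤ (Opens.map π.base).obj W)
    (r : Γ(Spec (CommRingCat.of A), W)) (n : Γ(TM M, W)) :
    LW π M h hu hW (r • n) = res hle (pull π W r) • LW π M h hu hW n := by
  let D : (Spec (CommRingCat.of A)).Opens := PrimeSpectrum.basicOpen h
  let r' : Γ(Spec (CommRingCat.of A), D) := (Spec (CommRingCat.of A)).presheaf.map (homOfLE hW).op r
  let n' : Γ(TM M, D) := (TM M).presheaf.map (homOfLE hW).op n
  letI : Algebra A Γ(Spec (CommRingCat.of A), D) :=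
    inferInstanceAs (Algebra A ((AlgebraicGeometry.Spec.structureSheaf A).presheaf.obj (op D)))
  haveI : IsLocalization.Away h Γ(Spec (CommRingCat.of A), D) :=
    StructureSheaf.IsLocalization.to_basicOpen A h
  obtain ⟨k, a, ha⟩ := IsLocalization.Away.surj (S := Γ(Spec (CommRingCat.of A), D)) h r'
  have hr : res hle (pull π W r) = res le_rfl (pull π D r') := by
    rw [show pull π D r' = pull π D (res (X := HensSch.specLRS A) hW r) from rfl, pull_res, res_res]
  have hsm : ∀ (y : A) (w : Γ(TM M, D)),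
      Lh π M h hu (((algebraMap A Γ(Spec (CommRingCat.of A), D)) y) • w) = algebraMap A (SS π h) y • Lh π M h hu w :=
    fun y w => by
      refine Eq.trans ?_ (((Lh π M h hu).map_smul y w).trans (algebraMap_smul (SS π h) y _).symm)
      rfl
  have hpull : ∀ y : A, res le_rfl (pull π D (algebraMap A Γ(Spec (CommRingCat.of A), D) y)) =
      algebraMap A (SS π h) y := fun y => by
    rw [show pull π D (algebraMap A Γ(Spec (CommRingCat.of A), D) y) =
      pull π D (res (X := HensSch.specLRS A) (le_top : D ≤ ⊤) ((Scheme.ΓSpecIso (CommRingCat.of A)).inv.hom y)) from rfl,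
      pull_res, res_res]
    rfl
  have e : algebraMap A (SS π h) h ^ k • Lh π M h hu (r' • n') =
      algebraMap A (SS π h) h ^ k • (res le_rfl (pull π D r') • Lh π M h hu n') := by
    rw [← map_pow, ← hsm, ← mul_smul, ← mul_smul]
    have ha' : algebraMap A Γ(Spec (CommRingCat.of A), D) (h ^ k) * r' = algebraMap A _ a := by
      rw [map_pow, mul_comm]; exact ha
    rw [ha', hsm, ← hpull (h ^ k), ← map_mul, ← map_mul, ha', hpull]
  have e2 := (hu.pow k).smul_left_cancel.1 e
  rw [hr]
  refine Eq.trans ?_ e2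
  exact congrArg (Lh π M h hu) ((TM M).map_smul (homOfLE hW) r n)

theorem LW_mΓ (h : A) (hu : IsUnit (algebraMap A (SS π h) h)) (hW : PrimeSpectrum.basicOpen h ≤ ⊤) (m : M) :
    LW π M h hu hW (mΓ M m) = 1 ⊗ₜ m :=
  (congrArg (Lh π M h hu) (ConcreteCategory.congr_hom
    (tilde.toOpen_res (R := CommRingCat.of A) M ⊤ (PrimeSpectrum.basicOpen (R := A) h) (homOfLE hW)) m)).trans (Lh_toOpen π M h hu m)

theorem exists_res_eq_zero {I : Ideal A} (hX : HensSch.IsSph A I X π) {f : A} (z : SS π f ⊗[A] M)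
    (hz : θ π M f z = 0) (x : X) (hx : x ∈ HensSch.dOpen π f) :
    ∃ (h : A) (hle : HensSch.dOpen π h ≤ HensSch.dOpen π f), x ∈ HensSch.dOpen π h ∧
      LinearMap.rTensor M (rr π hle).toLinearMap z = 0 := by
  classical
  obtain ⟨T, hT⟩ := TensorProduct.exists_finset z
  subst hT
  let O : (Spec (CommRingCat.of A)).Opens := ⊤
  have hfO : HensSch.dOpen π f ≤ (Opens.map π.base).obj O := fun _ _ => trivial
  let E : SS π f × M → (Σ i : Idx (O_D := (Spec (CommRingCat.of A)).toLocallyRingedSpace.sheaf) (TM M),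
      HensSch.dOpen π f ⟶ (Opens.map π.base).obj i.1) := fun a => ⟨⟨O, mΓ M a.2⟩, homOfLE hfO⟩
  let y₀ : (freeGens (HensSch.rmor π) (TM M)).obj (op (HensSch.dOpen π f)) :=
    ∑ a ∈ T, a.1 • gen' (HensSch.rmor π) (TM M) (E a)
  have hy₀ : (lam (HensSch.rmor π) (TM M)).app (op (HensSch.dOpen π f)) y₀ = 0 := by
    refine (map_sum ((lam (HensSch.rmor π) (TM M)).app (op (HensSch.dOpen π f))).hom _ _).trans ?_
    refine Eq.trans (Finset.sum_congr rfl fun a _ => ?_) ((map_sum (θ π M f) _ _).symm.trans hz)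
    refine (((lam (HensSch.rmor π) (TM M)).app (op (HensSch.dOpen π f))).hom.map_smul _ _).trans ?_
    refine congrArg (a.1 • ·) ((lam_gen' (HensSch.rmor π) (TM M) (E a)).trans ?_)
    exact congrArg (fun k => FlatRel25.res (FF π M) k _) (Subsingleton.elim _ _)
  obtain ⟨S, hS, hrel⟩ := exists_rel (HensSch.rmor π) (TM M) y₀ hy₀
  obtain ⟨V, g, hg, hxV⟩ := hS x hx
  obtain ⟨d, hd⟩ := hrel g hg
  rw [relMap_apply] at hd
  let ds : (Σ R : Rel (O_D := (Spec (CommRingCat.of A)).toLocallyRingedSpace.sheaf) (TM M),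
      V ⟶ (Opens.map π.base).obj R.W) →₀ Sec X V := d
  obtain ⟨O', hO', he⟩ := hX.1.toIsInducing.isOpen_iff.mp V.isOpen
  have hxO' : π.base x ∈ O' := (he.ge hxV : x ∈ π.base ⁻¹' O')
  have hinf : π.base x ∈ ((⟨O', hO'⟩ : (Spec (CommRingCat.of A)).Opens) ⊓ ds.support.inf fun R => R.1.W) := by
    refine ⟨hxO', ?_⟩
    suffices ∀ T : Finset (Σ R : Rel (O_D := (Spec (CommRingCat.of A)).toLocallyRingedSpace.sheaf) (TM M),
        V ⟶ (Opens.map π.base).obj R.W), π.base x ∈ T.inf fun R => R.1.W from this _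
    intro T
    induction T using Finset.induction_on with
    | empty => rw [Finset.inf_empty]; trivial
    | insert e T he ih => rw [Finset.inf_insert]; exact ⟨leOfHom e.2 hxV, ih⟩
  obtain ⟨_, ⟨h, rfl⟩, hxh, hsub⟩ := PrimeSpectrum.isTopologicalBasis_basic_opens.exists_subset_of_mem_open
    hinf ((⟨O', hO'⟩ : (Spec (CommRingCat.of A)).Opens) ⊓ ds.support.inf fun R => R.1.W).isOpen
  have hhV : HensSch.dOpen π h ≤ V := fun y hy => he.le (hsub hy).1
  have hhf : HensSch.dOpen π h ≤ HensSch.dOpen π f := hhV.trans (leOfHom g)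
  have hWR : ∀ R ∈ ds.support, PrimeSpectrum.basicOpen h ≤ R.1.W := fun R hR y hy =>
    (show _ ≤ R.1.W from Finset.inf_le (f := fun R => R.1.W) hR) (hsub hy).2
  have hu : IsUnit (algebraMap A (SS π h) h) := (hX.2.2 h).1
  refine ⟨h, hhf, hxh, ?_⟩
  let μ : (Σ i : Idx (O_D := (Spec (CommRingCat.of A)).toLocallyRingedSpace.sheaf) (TM M),
      V ⟶ (Opens.map π.base).obj i.1) → SS π h ⊗[A] M := fun e =>
    if hW : PrimeSpectrum.basicOpen h ≤ e.1.1 then LW π M h hu hW e.1.2 else 0
  let θV : Sec X V →+* SS π h := res hhV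
  let ψ : ((Σ i : Idx (O_D := (Spec (CommRingCat.of A)).toLocallyRingedSpace.sheaf) (TM M),
      V ⟶ (Opens.map π.base).obj i.1) →₀ Sec X V) →+ SS π h ⊗[A] M :=
    Finsupp.liftAddHom fun e => AddMonoidHom.mk' (fun c => θV c • μ e) fun c c' => by rw [map_add, add_smul]
  have hψ1 : ∀ e c, ψ (Finsupp.single e c) = θV c • μ e := fun e c =>
    Finsupp.liftAddHom_apply_single _ e c
  have hψs : ∀ (c : Sec X V) z, ψ (c • z) = θV c • ψ z := by
    intro c z
    induction z using Finsupp.induction_linear with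
    | zero => simp
    | add a b ha hb => rw [smul_add, map_add, map_add, ha, hb, smul_add]
    | single e c' => rw [Finsupp.smul_single, hψ1, hψ1, smul_eq_mul, map_mul, mul_smul]
  have hrel0 : ∀ R ∈ ds.support, ψ (relVec (HensSch.rmor π) (TM M) (V := V) R) = 0 := by
    intro R hR
    have hW := hWR R hR
    have hle : HensSch.dOpen π h ≤ (Opens.map π.base).obj R.1.W := fun y hy => hW hy
    have h0 := congrArg (LW π M h hu hW) R.1.rel
    simp only [Finsupp.sum] at h0
    erw [map_sum, map_zero] at h0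
    simp only [relVec, Finsupp.sum]
    erw [map_sum]
    refine (Finset.sum_congr rfl fun a ha => ?_).trans h0
    refine (hψs _ _).trans ?_
    erw [hψ1]
    erw [map_one, one_smul]
    refine Eq.trans ?_ (LW_smul π M h hu hW hle (R.1.r a) _).symm
    refine congrArg₂ (fun (c : SS π h) w => c • w) ?_ ?_
    · show res hhV (res (leOfHom R.2) (pull π R.1.W (R.1.r a))) = _
      rw [res_res]
    · refine (dif_pos (hW.trans (leOfHom a.2))).trans ?_
      exact (LW_res π M h hu hW a.2 _).symm
  have hy : (freeGens (HensSch.rmor π) (TM M)).map g.op y₀ =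
      ∑ a ∈ T, res (leOfHom g) a.1 • gen' (HensSch.rmor π) (TM M) ((gens (HensSch.rmor π) (TM M)).map g.op (E a)) := by
    refine (map_sum ((freeGens (HensSch.rmor π) (TM M)).map g.op).hom _ _).trans (Finset.sum_congr rfl fun a _ => ?_)
    refine ((freeGens (HensSch.rmor π) (TM M)).map_smul g.op _ _).trans ?_
    rw [gen'_map]
    rfl
  erw [hy] at hd
  have h1 := congrArg ψ hd
  rw [Finsupp.sum] at h1
  erw [map_sum, map_sum] at h1
  replace h1 := (Finset.sum_eq_zero fun R hR => (hψs _ _).trans (by rw [hrel0 R hR, smul_zero])).symm.trans h1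
  rw [map_sum]
  refine Eq.trans (Finset.sum_congr rfl fun a _ => ?_) h1.symm
  refine Eq.trans ?_ (hψs _ _).symm
  erw [hψ1]
  rw [map_one, one_smul]
  refine Eq.trans ?_ (congrArg (θV (res (leOfHom g) a.1) • ·)
    ((dif_pos (le_top : PrimeSpectrum.basicOpen h ≤ O)).trans (LW_mΓ π M h hu le_top a.2)).symm)
  rw [LinearMap.rTensor_tmul, TensorProduct.smul_tmul', smul_eq_mul, mul_one]
  exact congrArg (fun s : SS π h => s ⊗ₜ[A] a.2) (res_res _ hhV a.1).symm

end GrothLib.HSphMod4
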