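import Groth.Agent.Lib.HSphMod4.Germ
import Groth.Agent.Lib.HSphMod4.Algebra
import Groth.Agent.Lib.HensCoh4.Elements

/-!
# Sections of `M~` on an affine Henselian spectrum
-/

set_option autoImplicit false
set_option maxHeartbeats 800000
set_option backward.isDefEq.respectTransparency false

universe u

open CategoryTheory Opposite TopologicalSpace AlgebraicGeometry TensorProduct

noncomputable section

namespace GrothLib.HSphMod4

open GrothLib.HensSpec GrothLib.PullLoc25 GrothLib.HHfpLoc4

variable {A : Type u} [CommRing A] {I : Ideal A} {X : LocallyRingedSpace.{u}} {π : X ⟶ HensSch.specLRS A}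
  (hX : HensSch.IsSph A I X π) (M : ModuleCat.{u} A)

attribute [local instance] algSS

include hX

theorem mem_dOpen (f : A) (x : X) : x ∈ HensSch.dOpen π f ↔ f ∉ (π.base x).asIdeal := Iff.rfl

theorem isHA_SS {f h : A} (hle : HensSch.dOpen π h ≤ HensSch.dOpen π f) :
    letI : Algebra (SS π f) (SS π h) := (rr π hle).toRingHom.toAlgebra
    IsHA (I.map (algebraMap A (SS π f))) (algebraMap A (SS π f) h) (algebraMap (SS π f) (SS π h)) := by
  letI : Algebra (SS π f) (SS π h) := (rr π hle).toRingHom.toAlgebra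
  haveI : IsScalarTower A (SS π f) (SS π h) :=
    IsScalarTower.of_algebraMap_eq fun a => ((rr π hle).commutes a).symm
  obtain ⟨huh, hensh, hunivh⟩ := hX.2.2 h
  obtain ⟨huf, hensf, hunivf⟩ := hX.2.2 f
  refine ⟨?_, ?_, fun C _ J g hC hg hgx => ?_⟩
  · rw [← IsScalarTower.algebraMap_apply]; exact huh
  · rw [Algebra.algebraMap_self, RingHom.comp_id, Ideal.map_map, ← IsScalarTower.algebraMap_eq]
    exact hensh
  rw [Algebra.algebraMap_self, RingHom.comp_id] at hg
  have hg' : I.map (g.comp (algebraMap A (SS π f))) ≤ J := by rw [← Ideal.map_map]; exact hg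
  obtain ⟨k, hk, hu⟩ := hunivh C J (g.comp (algebraMap A (SS π f))) hC hg' hgx
  have hkg : k.comp (algebraMap (SS π f) (SS π h)) = g :=
    (hunivf C J (g.comp (algebraMap A (SS π f))) hC hg' (huf.map g)).unique (by
      rw [RingHom.comp_assoc]
      show k.comp ((algebraMap (SS π f) (SS π h)).comp (algebraMap A (SS π f))) = _
      rw [← IsScalarTower.algebraMap_eq]; exact hk) rfl
  refine ⟨k, hkg, fun k' hk' => hu k' ?_⟩
  show k'.comp (algebraMap A (SS π h)) = _
  rw [IsScalarTower.algebraMap_eq A (SS π f) (SS π h), ← RingHom.comp_assoc, hk']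

theorem henselianRing_SS (f : A) : HenselianRing (SS π f) (I.map (algebraMap A (SS π f))) :=
  (hX.2.2 f).2.1

/-- Distinguished opens covering `D(f)` generate the unit ideal of its ring modulo `I`. -/
theorem cov_of_cover {f : A} {ι : Type u} (h : ι → A)
    (hc : ∀ x ∈ HensSch.dOpen π f, ∃ k, x ∈ HensSch.dOpen π (h k)) :
    I.map (algebraMap A (SS π f)) ⊔ Ideal.span (Set.range fun k => algebraMap A (SS π f) (h k)) = ⊤ := by
  by_contra hne
  obtain ⟨Q, hQ, hle⟩ := Ideal.exists_le_maximal _ hne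
  let p : PrimeSpectrum A := ⟨Q.comap (algebraMap A (SS π f)), inferInstance⟩
  have hp : p ∈ PrimeSpectrum.zeroLocus (I : Set A) := fun a ha => hle (Ideal.mem_sup_left (Ideal.mem_map_of_mem _ ha))
  obtain ⟨x, hx⟩ := hX.2.1.ge hp
  have hxf : x ∈ HensSch.dOpen π f := by
    rw [mem_dOpen hX, hx]
    exact fun hf => hQ.ne_top (Ideal.eq_top_of_isUnit_mem _ hf (hX.2.2 f).1)
  obtain ⟨k, hk⟩ := hc x hxf
  rw [mem_dOpen hX, hx] at hk
  exact hk (hle (Ideal.mem_sup_right (Ideal.subset_span ⟨k, rfl⟩)))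

theorem dOpen_mul_le (a b : A) : HensSch.dOpen π (a * b) ≤ HensSch.dOpen π a ∧
    HensSch.dOpen π (a * b) ≤ HensSch.dOpen π b :=
  ⟨fun x hx h => (mem_dOpen hX _ x).1 hx (Ideal.mul_mem_right _ _ h),
    fun x hx h => (mem_dOpen hX _ x).1 hx (Ideal.mul_mem_left _ _ h)⟩

omit hX in
theorem cancel_tmul {f h : A} (hle : HensSch.dOpen π h ≤ HensSch.dOpen π f) (z : SS π f ⊗[A] M) :
    letI : Algebra (SS π f) (SS π h) := (rr π hle).toRingHom.toAlgebra
    haveI : IsScalarTower A (SS π f) (SS π h) :=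
      IsScalarTower.of_algebraMap_eq fun a => ((rr π hle).commutes a).symm
    AlgebraTensorModule.cancelBaseChange A (SS π f) (SS π f) (SS π h) M ((1 : SS π h) ⊗ₜ[SS π f] z) =
      LinearMap.rTensor M (rr π hle).toLinearMap z := by
  letI : Algebra (SS π f) (SS π h) := (rr π hle).toRingHom.toAlgebra
  haveI : IsScalarTower A (SS π f) (SS π h) :=
    IsScalarTower.of_algebraMap_eq fun a => ((rr π hle).commutes a).symm
  induction z with
  | zero => simp only [TensorProduct.tmul_zero, map_zero]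
  | add p q hp hq => simp only [TensorProduct.tmul_add, map_add, hp, hq]
  | tmul c m =>
    rw [AlgebraTensorModule.cancelBaseChange_tmul, LinearMap.rTensor_tmul, Algebra.smul_def, mul_one]
    rfl

theorem θ_injective (f : A) (z : SS π f ⊗[A] M) (hz : θ π M f z = 0) : z = 0 := by
  choose h hle hxh hzero using fun x : {x // x ∈ HensSch.dOpen π f} => exists_res_eq_zero π M hX z hz x.1 x.2
  haveI := henselianRing_SS hX f
  letI : ∀ k, Algebra (SS π f) (SS π (h k)) := fun k => (rr π (hle k)).toRingHom.toAlgebra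
  refine eq_zero_of_forall (fun k => algebraMap A (SS π f) (h k))
    (cov_of_cover hX h fun x hx => ⟨⟨x, hx⟩, hxh _⟩) (Sk := fun k => SS π (h k))
    (fun k => isHA_SS hX (hle k)) (SS π f ⊗[A] M) z fun k => ?_
  haveI : IsScalarTower A (SS π f) (SS π (h k)) :=
    IsScalarTower.of_algebraMap_eq fun a => ((rr π (hle k)).commutes a).symm
  apply (AlgebraTensorModule.cancelBaseChange A (SS π f) (SS π f) (SS π (h k)) M).injective
  rw [map_zero, cancel_tmul, hzero]

theorem exists_local_preimage {f : A} (s : ModSite.sect (FF π M) (HensSch.dOpen π f)) (x : X)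
    (hx : x ∈ HensSch.dOpen π f) :
    ∃ (h : A) (hle : HensSch.dOpen π h ≤ HensSch.dOpen π f), x ∈ HensSch.dOpen π h ∧
      ∃ z, θ π M h z = FlatRel25.res (FF π M) (homOfLE hle) s := by
  classical
  obtain ⟨S, hS, hlam⟩ := exists_lam (HensSch.rmor π) (TM M) s
  obtain ⟨V, g, hg, hxV⟩ := hS x hx
  obtain ⟨c, hc⟩ := hlam g hg
  rw [lam_apply] at hc
  let cs : (Σ i : Idx (O_D := (Spec (CommRingCat.of A)).toLocallyRingedSpace.sheaf) (TM M),
      V ⟶ (Opens.map π.base).obj i.1) →₀ Sec X V := c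
  obtain ⟨O', hO', he⟩ := hX.1.toIsInducing.isOpen_iff.mp V.isOpen
  have hxO' : π.base x ∈ O' := (he.ge hxV : x ∈ π.base ⁻¹' O')
  have hinf : π.base x ∈ ((⟨O', hO'⟩ : (Spec (CommRingCat.of A)).Opens) ⊓ cs.support.inf fun e => e.1.1) := by
    refine ⟨hxO', ?_⟩
    suffices ∀ T : Finset (Σ i : Idx (O_D := (Spec (CommRingCat.of A)).toLocallyRingedSpace.sheaf) (TM M),
        V ⟶ (Opens.map π.base).obj i.1), π.base x ∈ T.inf fun e => e.1.1 from this _
    intro T
    induction T using Finset.induction_on with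
    | empty => rw [Finset.inf_empty]; trivial
    | insert e T he ih => rw [Finset.inf_insert]; exact ⟨leOfHom e.2 hxV, ih⟩
  obtain ⟨_, ⟨h, rfl⟩, hxh, hsub⟩ := PrimeSpectrum.isTopologicalBasis_basic_opens.exists_subset_of_mem_open
    hinf ((⟨O', hO'⟩ : (Spec (CommRingCat.of A)).Opens) ⊓ cs.support.inf fun e => e.1.1).isOpen
  have hhV : HensSch.dOpen π h ≤ V := fun y hy => he.le (hsub hy).1
  have hhf : HensSch.dOpen π h ≤ HensSch.dOpen π f := hhV.trans (leOfHom g)
  have hu : IsUnit (algebraMap A (SS π h) h) := (hX.2.2 h).1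
  refine ⟨h, hhf, hxh, ?_⟩
  suffices hS : FlatRel25.res (FF π M) (homOfLE hhf) s ∈ (θ π M h).range from AddMonoidHom.mem_range.1 hS
  have e1 : FlatRel25.res (FF π M) (homOfLE hhf) s =
      FlatRel25.res (FF π M) (homOfLE hhV) (FlatRel25.res (FF π M) g s) :=
    ((FlatRel25.res_res (F := FF π M) g (homOfLE hhV) s).trans
      (congrArg (fun k => FlatRel25.res (FF π M) k s) (Subsingleton.elim _ _))).symm
  rw [e1]
  erw [← hc]
  rw [Finsupp.sum, map_sum]
  refine AddSubmonoid.sum_mem _ fun e he' => ?_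
  have hDe : PrimeSpectrum.basicOpen h ≤ e.1.1 := fun y hy =>
    (show _ ≤ e.1.1 from Finset.inf_le (f := fun e => e.1.1) he') (hsub hy).2
  obtain ⟨⟨m, ⟨_, k, rfl⟩⟩, hm⟩ := (isLocalized_toOpen M h).surj (S := Submonoid.powers h)
    ((TM M).presheaf.map (homOfLE hDe).op e.1.2)
  obtain ⟨v, hv⟩ := (hu.pow k).exists_left_inv
  let n' : ModSite.sect (TM M) (PrimeSpectrum.basicOpen h) := (TM M).presheaf.map (homOfLE hDe).op e.1.2
  have hps : pullSec (HensSch.rmor π) (TM M) (U := PrimeSpectrum.basicOpen h) n' = θ π M h (v ⊗ₜ m) := by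
    have h2 : algebraMap A (SS π h) h ^ k • pullSec (HensSch.rmor π) (TM M) (U := PrimeSpectrum.basicOpen h) n' =
        mS π M h m := by
      have h3 := congrArg (pullSec (HensSch.rmor π) (TM M) (U := PrimeSpectrum.basicOpen h)) hm
      rw [mS]
      refine Eq.trans ?_ ((h3.trans ?_))
      · rw [← map_pow]
        refine Eq.trans ?_ (pullSec_smul (HensSch.rmor π) (TM M) (W := PrimeSpectrum.basicOpen h)
          ((Spec (CommRingCat.of A)).presheaf.map (homOfLE (le_top : PrimeSpectrum.basicOpen h ≤ ⊤)).op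
            ((Scheme.ΓSpecIso (CommRingCat.of A)).inv.hom (h ^ k))) n').symm
        refine congrArg (fun c : SS π h => c • pullSec (HensSch.rmor π) (TM M) (U := PrimeSpectrum.basicOpen h) n') ?_
        show res le_top (pull π ⊤ _) = pull π (PrimeSpectrum.basicOpen h) (res (X := HensSch.specLRS A) _ _)
        rw [pull_res]
        rfl
      · refine Eq.trans ?_ (pullSec_natural (HensSch.rmor π) (TM M) (homOfLE (le_top : PrimeSpectrum.basicOpen h ≤ ⊤))
          (mΓ M m))
        refine congrArg (pullSec (HensSch.rmor π) (TM M) (U := PrimeSpectrum.basicOpen h)) ?_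
        exact (ConcreteCategory.congr_hom (tilde.toOpen_res (R := CommRingCat.of A) M ⊤
          (PrimeSpectrum.basicOpen (R := A) h) (homOfLE le_top)) m).symm
    rw [θ_tmul, ← h2, ← mul_smul, hv, one_smul]
  refine ⟨res hhV (cs e) • (v ⊗ₜ m), ?_⟩
  have hlin : ∀ (c : SS π h) z, θ π M h (c • z) = c • θ π M h z := fun c z => by
    induction z with
    | zero => simp only [smul_zero, map_zero]
    | add p q hp hq => simp only [smul_add, map_add, hp, hq]
    | tmul a b => rw [TensorProduct.smul_tmul', θ_tmul, θ_tmul, smul_eq_mul, mul_smul]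
  rw [hlin, ← hps, FlatRel25.res_smul]
  refine congrArg (res hhV (cs e) • ·) ?_
  refine (pullSec_natural (HensSch.rmor π) (TM M) (homOfLE hDe) e.1.2).trans ?_
  refine Eq.trans ?_ (FlatRel25.res_res (F := FF π M) e.2 (homOfLE hhV) _).symm
  exact congrArg (fun k => FlatRel25.res (FF π M) k _) (Subsingleton.elim _ _)

theorem θ_surjective (f : A) : Function.Surjective (θ π M f) := by
  intro s
  choose h hle hxh z hz using fun x : {x // x ∈ HensSch.dOpen π f} => exists_local_preimage hX M s x.1 x.2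
  haveI := henselianRing_SS hX f
  have hle2 : ∀ k l, HensSch.dOpen π (h k * h l) ≤ HensSch.dOpen π f := fun k l =>
    (dOpen_mul_le hX _ _).1.trans (hle k)
  letI : ∀ k, Algebra (SS π f) (SS π (h k)) := fun k => (rr π (hle k)).toRingHom.toAlgebra
  letI : ∀ k l, Algebra (SS π f) (SS π (h k * h l)) := fun k l => (rr π (hle2 k l)).toRingHom.toAlgebra
  haveI : ∀ k, IsScalarTower A (SS π f) (SS π (h k)) := fun k =>
    IsScalarTower.of_algebraMap_eq fun a => ((rr π (hle k)).commutes a).symm
  haveI : ∀ k l, IsScalarTower A (SS π f) (SS π (h k * h l)) := fun k l =>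
    IsScalarTower.of_algebraMap_eq fun a => ((rr π (hle2 k l)).commutes a).symm
  let r₁ : ∀ k l, SS π (h k) →ₐ[SS π f] SS π (h k * h l) := fun k l =>
    { (rr π (dOpen_mul_le hX (h k) (h l)).1).toRingHom with commutes' := fun a => res_res _ _ a }
  let r₂ : ∀ k l, SS π (h l) →ₐ[SS π f] SS π (h k * h l) := fun k l =>
    { (rr π (dOpen_mul_le hX (h k) (h l)).2).toRingHom with commutes' := fun a => res_res _ _ a }
  let e : ∀ k, SS π (h k) ⊗[SS π f] (SS π f ⊗[A] M) ≃ₗ[SS π f] SS π (h k) ⊗[A] M := fun k =>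
    (AlgebraTensorModule.cancelBaseChange A (SS π f) (SS π f) (SS π (h k)) M)
  let e2 : ∀ k l, SS π (h k * h l) ⊗[SS π f] (SS π f ⊗[A] M) ≃ₗ[SS π f] SS π (h k * h l) ⊗[A] M := fun k l =>
    (AlgebraTensorModule.cancelBaseChange A (SS π f) (SS π f) (SS π (h k * h l)) M)
  have hnat₁ : ∀ k l y, e2 k l (LinearMap.rTensor _ (r₁ k l).toLinearMap y) =
      LinearMap.rTensor M (rr π (dOpen_mul_le hX (h k) (h l)).1).toLinearMap (e k y) := fun k l y => by
    induction y with
    | zero => simp only [map_zero]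
    | add p q hp hq => simp only [map_add, hp, hq]
    | tmul c w =>
      induction w with
      | zero => simp only [TensorProduct.tmul_zero, map_zero]
      | add p q hp hq => simp only [TensorProduct.tmul_add, map_add, hp, hq]
      | tmul a b =>
        simp only [e, e2, LinearMap.rTensor_tmul, AlgebraTensorModule.cancelBaseChange_tmul]
        exact congrArg (· ⊗ₜ[A] b) ((r₁ k l).toLinearMap.map_smul a c).symm
  have hnat₂ : ∀ k l y, e2 k l (LinearMap.rTensor _ (r₂ k l).toLinearMap y) =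
      LinearMap.rTensor M (rr π (dOpen_mul_le hX (h k) (h l)).2).toLinearMap (e l y) := fun k l y => by
    induction y with
    | zero => simp only [map_zero]
    | add p q hp hq => simp only [map_add, hp, hq]
    | tmul c w =>
      induction w with
      | zero => simp only [TensorProduct.tmul_zero, map_zero]
      | add p q hp hq => simp only [TensorProduct.tmul_add, map_add, hp, hq]
      | tmul a b =>
        simp only [e, e2, LinearMap.rTensor_tmul, AlgebraTensorModule.cancelBaseChange_tmul]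
        exact congrArg (· ⊗ₜ[A] b) ((r₂ k l).toLinearMap.map_smul a c).symm
  have hkl : ∀ k l, IsHA (I.map (algebraMap A (SS π f))) (algebraMap A (SS π f) (h k) * algebraMap A (SS π f) (h l))
      (algebraMap (SS π f) (SS π (h k * h l))) := fun k l => by
    rw [← map_mul]; exact isHA_SS hX (hle2 k l)
  obtain ⟨y, hy⟩ := exists_glued (fun k => algebraMap A (SS π f) (h k))
    (cov_of_cover hX h fun x hx => ⟨⟨x, hx⟩, hxh _⟩) (Sk := fun k => SS π (h k))
    (fun k => isHA_SS hX (hle k)) (SS π f ⊗[A] M) (Skl := fun k l => SS π (h k * h l)) hkl r₁ r₂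
    (fun k => (e k).symm (z k)) (fun k l => by
      apply (e2 k l).injective
      rw [hnat₁, hnat₂, (e k).apply_symm_apply, (e l).apply_symm_apply, ← sub_eq_zero]
      refine θ_injective hX M _ _ ?_
      rw [map_sub, ← θ_res, ← θ_res, hz, hz, FlatRel25.res_res, FlatRel25.res_res, sub_eq_zero]
      exact congrArg (fun k => FlatRel25.res (FF π M) k s) (Subsingleton.elim _ _))
  refine ⟨y, ?_⟩
  rw [← sub_eq_zero]
  let S : Sieve (HensSch.dOpen π f) :=
    { arrows := fun U' _ => ∃ k, U' ≤ HensSch.dOpen π (h k)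
      downward_closed := fun {U' U''} _ ⟨k, hk⟩ j => ⟨k, (leOfHom j).trans hk⟩ }
  have hS : S ∈ Opens.grothendieckTopology X (HensSch.dOpen π f) := fun x hx =>
    ⟨HensSch.dOpen π (h ⟨x, hx⟩), homOfLE (hle _), ⟨_, le_rfl⟩, hxh _⟩
  refine FlatRel25_eq_zero_of_locally (FF π M) hS fun U' g ⟨k, hk⟩ => ?_
  have h0 : FlatRel25.res (FF π M) (homOfLE (hle k)) (θ π M f y - s) = 0 := by
    rw [map_sub, θ_res, ← cancel_tmul M (hle k) y, hy k, (e k).apply_symm_apply, hz, sub_self]
  rw [show g = homOfLE hk ≫ homOfLE (hle k) from Subsingleton.elim _ _, ← FlatRel25.res_res, h0, map_zero]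

/-- Sections of `M~` over a distinguished open. -/
def sections (f : A) : SS π f ⊗[A] M ≃+ ModSite.sect (FF π M) (HensSch.dOpen π f) :=
  AddEquiv.ofBijective (θ π M f)
    ⟨(injective_iff_map_eq_zero _).2 (θ_injective hX M f), θ_surjective hX M f⟩

end GrothLib.HSphMod4
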