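import Groth.Agent.Lib.HSphMod4.Univ
import Mathlib.Algebra.Category.ModuleCat.ChangeOfRings

/-!
# Direct images of `N~` along finite maps of affine Henselian spectra
-/

set_option autoImplicit false
set_option maxHeartbeats 1000000
set_option backward.isDefEq.respectTransparency false

universe u

open CategoryTheory Opposite TopologicalSpace AlgebraicGeometry TensorProduct

noncomputable section

namespace GrothLib.HSphMod4

open GrothLib.HensSpec GrothLib.PullLoc25 GrothLib.HHfpLoc4

variable {A B : Type u} [CommRing A] [CommRing B] [Algebra A B]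

attribute [local instance] algSS

theorem isHA_of_isHensAway {I : Ideal A} {f : B} {H : Type u} [CommRing H] [Algebra B H]
    (h : HensSch.IsHensAway B (I.map (algebraMap A B)) f H (algebraMap B H)) : IsHA I f (algebraMap B H) := by
  refine ⟨h.1, ?_, fun C _ J g hC hg hx => h.2.2 C J g hC (by rw [Ideal.map_map]; exact hg) hx⟩
  have := h.2.1
  rwa [Ideal.map_map] at this

/-- Base change of the henselization along an integral map. -/
theorem bijective_tensor {I : Ideal A} [Algebra.IsIntegral A B] {f : A} {SA SB : Type u} [CommRing SA] [CommRing SB]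
    [Algebra A SA] [Algebra B SB] (hA : IsHA I f (algebraMap A SA)) (hB : IsHA I (algebraMap A B f) (algebraMap B SB))
    (γ : SA →+* SB) (hγ : γ.comp (algebraMap A SA) = (algebraMap B SB).comp (algebraMap A B)) :
    ∃ (κ : SA ⊗[A] B ≃+* SB), (∀ c b, κ (c ⊗ₜ b) = γ c * algebraMap B SB b) := by
  letI : Algebra A SB := ((algebraMap B SB).comp (algebraMap A B)).toAlgebra
  let f₁ : SA →ₐ[A] SB := ⟨γ, RingHom.congr_fun hγ⟩
  let f₂ : B →ₐ[A] SB := ⟨algebraMap B SB, fun _ => rfl⟩
  let κ₀ : SA ⊗[A] B →ₐ[A] SB := Algebra.TensorProduct.lift f₁ f₂ (fun x y => Commute.all (f₁ x) (f₂ y))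
  have hT := isHA_tensor (C := B) hA
  let iR : B →+* SA ⊗[A] B := (Algebra.TensorProduct.includeRight : B →ₐ[A] SA ⊗[A] B).toRingHom
  have hκR : κ₀.toRingHom.comp iR = algebraMap B SB := RingHom.ext fun b => by
    show κ₀ (1 ⊗ₜ b) = _
    rw [Algebra.TensorProduct.lift_tmul, map_one, one_mul]
    rfl
  obtain ⟨ν, hν⟩ := hB.exists_map _ iR hT.hens le_rfl hT.unit
  have h1 : κ₀.toRingHom.comp ν = RingHom.id SB := by
    have e : (κ₀.toRingHom.comp ν).comp (algebraMap B SB) = algebraMap B SB := by
      rw [RingHom.comp_assoc, hν, hκR]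
    exact hB.ext _ hB.hens (by rw [e]) (e.trans (RingHom.id_comp _).symm)
  have h2 : ν.comp κ₀.toRingHom = RingHom.id _ := by
    have e : (ν.comp κ₀.toRingHom).comp iR = iR := by rw [RingHom.comp_assoc, hκR, hν]
    exact hT.ext _ hT.hens (by rw [e]) (e.trans (RingHom.id_comp _).symm)
  exact ⟨RingEquiv.ofRingHom κ₀.toRingHom ν h1 h2, fun c b => (Algebra.TensorProduct.lift_tmul f₁ f₂ (fun x y => Commute.all (f₁ x) (f₂ y)) c b : _)⟩

/-- `S_A ⊗_A N → S_B ⊗_B N`. -/
def baseMap {SA SB : Type u} [CommRing SA] [CommRing SB] [Algebra A SA] [Algebra B SB] (γ : SA →+* SB)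
    (hγ : γ.comp (algebraMap A SA) = (algebraMap B SB).comp (algebraMap A B))
    (N : Type u) [AddCommGroup N] [Module B N] [Module A N] [IsScalarTower A B N] :
    SA ⊗[A] N →+ SB ⊗[B] N :=
  TensorProduct.liftAddHom
    (AddMonoidHom.mk' (fun c => AddMonoidHom.mk' (fun n => γ c ⊗ₜ[B] n) fun n n' => TensorProduct.tmul_add _ _ _)
      (fun c c' => AddMonoidHom.ext fun n => by
        show γ (c + c') ⊗ₜ[B] n = γ c ⊗ₜ[B] n + γ c' ⊗ₜ[B] n
        rw [map_add, TensorProduct.add_tmul]))
    (fun a c n => by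
      show γ (a • c) ⊗ₜ[B] n = γ c ⊗ₜ[B] (a • n)
      rw [Algebra.smul_def, map_mul, ← RingHom.comp_apply, hγ, RingHom.comp_apply, ← algebraMap_smul B a n,
        ← TensorProduct.smul_tmul, Algebra.smul_def])

theorem baseMap_bijective {I : Ideal A} [Algebra.IsIntegral A B] {f : A} {SA SB : Type u} [CommRing SA] [CommRing SB]
    [Algebra A SA] [Algebra B SB] (hA : IsHA I f (algebraMap A SA)) (hB : IsHA I (algebraMap A B f) (algebraMap B SB))
    (γ : SA →+* SB) (hγ : γ.comp (algebraMap A SA) = (algebraMap B SB).comp (algebraMap A B))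
    (N : Type u) [AddCommGroup N] [Module B N] [Module A N] [IsScalarTower A B N] :
    Function.Bijective (baseMap γ hγ N) := by
  obtain ⟨κ, hκ⟩ := bijective_tensor hA hB γ hγ
  let G : SA ⊗[A] B →+ (N →+ SA ⊗[A] N) := TensorProduct.liftAddHom
    (AddMonoidHom.mk' (fun c => AddMonoidHom.mk' (fun b => AddMonoidHom.mk' (fun n => c ⊗ₜ[A] (b • n))
        (fun n n' => by rw [smul_add, TensorProduct.tmul_add]))
        (fun b b' => AddMonoidHom.ext fun n => by
          show c ⊗ₜ[A] ((b + b') • n) = c ⊗ₜ[A] (b • n) + c ⊗ₜ[A] (b' • n)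
          rw [add_smul, TensorProduct.tmul_add]))
      (fun c c' => AddMonoidHom.ext fun b => AddMonoidHom.ext fun n => by
        show (c + c') ⊗ₜ[A] (b • n) = c ⊗ₜ[A] (b • n) + c' ⊗ₜ[A] (b • n)
        rw [TensorProduct.add_tmul]))
    (fun a c b => AddMonoidHom.ext fun n => by
      show (a • c) ⊗ₜ[A] (b • n) = c ⊗ₜ[A] ((a • b) • n)
      rw [smul_assoc, TensorProduct.smul_tmul])
  have hG : ∀ c b n, G (c ⊗ₜ b) n = c ⊗ₜ[A] (b • n) := fun _ _ _ => rfl
  have hG1 : ∀ (b : B) t n, G ((1 ⊗ₜ b) * t) n = G t (b • n) := fun b t n => by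
    induction t with
    | zero => simp
    | add p q hp hq => rw [mul_add, map_add, map_add]; exact congrArg₂ (· + ·) hp hq
    | tmul c b' => rw [Algebra.TensorProduct.tmul_mul_tmul, one_mul, hG, hG, mul_comm, mul_smul]
  have hκ1 : ∀ b s, κ.symm (algebraMap B SB b * s) = (1 ⊗ₜ b) * κ.symm s := fun b s => by
    apply κ.injective
    rw [κ.apply_symm_apply, map_mul, κ.apply_symm_apply, hκ, map_one, one_mul]
  let δ : SB ⊗[B] N →+ SA ⊗[A] N := TensorProduct.liftAddHom
    (G.comp κ.symm.toRingHom.toAddMonoidHom) (fun b s n => by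
      show G (κ.symm (b • s)) n = G (κ.symm s) (b • n)
      rw [Algebra.smul_def, hκ1, hG1])
  refine Function.bijective_iff_has_inverse.2 ⟨δ, fun z => ?_, fun z => ?_⟩
  · induction z with
    | zero => simp only [map_zero]
    | add p q hp hq => simp only [map_add, hp, hq]
    | tmul c n =>
      show G (κ.symm (γ c)) n = c ⊗ₜ[A] n
      rw [show γ c = κ (c ⊗ₜ 1) by rw [hκ, map_one, mul_one], κ.symm_apply_apply, hG, one_smul]
  · induction z with
    | zero => simp only [map_zero]
    | add p q hp hq => simp only [map_add, hp, hq]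
    | tmul s n =>
      obtain ⟨t, rfl⟩ := κ.surjective s
      show baseMap γ hγ N (G (κ.symm (κ t)) n) = κ t ⊗ₜ[B] n
      rw [κ.symm_apply_apply]
      induction t with
      | zero => simp
      | add p q hp hq =>
        rw [map_add, map_add, TensorProduct.add_tmul, ← hp, ← hq]
        rw [AddMonoidHom.add_apply, map_add]
      | tmul c b =>
        rw [hG, hκ]
        show γ c ⊗ₜ[B] (b • n) = _
        rw [← TensorProduct.smul_tmul, Algebra.smul_def, mul_comm]

section main

variable [Module.Finite A B] {I : Ideal A} {X Y : LocallyRingedSpace.{u}} {πA : X ⟶ HensSch.specLRS A}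
  {πB : Y ⟶ HensSch.specLRS B} {φ : Y ⟶ X}
  (hφ : φ ≫ πA = πB ≫ (Spec.map (CommRingCat.ofHom (algebraMap A B))).toLRSHom)

include hφ

theorem pre_eq (f : A) :
    (Opens.map φ.base).obj (HensSch.dOpen πA f) = HensSch.dOpen πB (algebraMap A B f) := by
  have hb : ∀ y, πA.base (φ.base y) = (Spec.map (CommRingCat.ofHom (algebraMap A B))).base (πB.base y) := fun y =>
    congrArg (fun k : Y ⟶ HensSch.specLRS A => k.base y) hφ
  refine Opens.ext (Set.ext fun y => ?_)
  show πA.base (φ.base y) ∈ PrimeSpectrum.basicOpen f ↔ _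
  rw [hb]
  rfl

theorem pull_inv (a : A) :
    pull φ ((Opens.map πA.base).obj ⊤) (pull πA ⊤ ((Scheme.ΓSpecIso (CommRingCat.of A)).inv.hom a)) =
      pull πB ⊤ ((Scheme.ΓSpecIso (CommRingCat.of B)).inv.hom (algebraMap A B a)) := by
  have hn := ConcreteCategory.congr_hom
    (Scheme.ΓSpecIso_inv_naturality (CommRingCat.ofHom (algebraMap A B))) a
  rw [← pull_comp]
  have h := res_pull_congr hφ (⊤ : Opens (HensSch.specLRS A)) ((Opens.map (φ ≫ πA).base).obj ⊤) le_rfl
    (fun _ _ => trivial) ((Scheme.ΓSpecIso (CommRingCat.of A)).inv.hom a)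
  refine (res_refl le_rfl _).symm.trans (h.trans ?_)
  refine (res_refl (U := (⊤ : Opens Y)) le_rfl _).trans ?_
  rw [pull_comp]
  exact congrArg (pull πB ⊤) hn.symm

/-- The comparison. -/
theorem exists_iso (hX : HensSch.IsSph A I X πA) (hY : HensSch.IsSph B (I.map (algebraMap A B)) Y πB)
    (N : ModuleCat.{u} B) :
    ∃ e : HensSch.sphTilde πA ((ModuleCat.restrictScalars (algebraMap A B)).obj N) ≅
        (HensSch.pushMod φ).obj (HensSch.sphTilde πB N),
      ∀ n : N, (e.hom.val.app (op ⊤)).hom
          ((((HensSch.pullPushAdj πA).unit.app (tilde ((ModuleCat.restrictScalars (algebraMap A B)).obj N))).val.app (op ⊤)).hom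
            (((tilde.adjunction (R := CommRingCat.of A)).unit.app ((ModuleCat.restrictScalars (algebraMap A B)).obj N)).hom n))
        = (((HensSch.pullPushAdj πB).unit.app (tilde N)).val.app (op ⊤)).hom
            (((tilde.adjunction (R := CommRingCat.of B)).unit.app N).hom n) := by
  let NA := (ModuleCat.restrictScalars (algebraMap A B)).obj N
  let adj : HensSch.sphTildeFunctor πA ⊣ HensSch.pushMod πA ⋙ moduleSpecΓFunctor (R := CommRingCat.of A) :=
    (tilde.adjunction (R := CommRingCat.of A)).comp (HensSch.pullPushAdj πA)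
  let FB := (HensSch.pushMod φ).obj (HensSch.sphTilde πB N)
  let ηB : N → ModSite.sect (FF πB N) ((Opens.map πB.base).obj ⊤) := fun n =>
    pullSec (HensSch.rmor πB) (TM N) (U := (⊤ : Opens (PrimeSpectrum B))) (mΓ N n)
  let ψ : NA ⟶ (HensSch.pushMod πA ⋙ moduleSpecΓFunctor (R := CommRingCat.of A)).obj FB :=
    ModuleCat.ofHom (X := NA) (Y := (HensSch.pushMod πA ⋙ moduleSpecΓFunctor (R := CommRingCat.of A)).obj FB)
      { toFun := fun (n : NA) => ηB n
        map_add' := fun n n' => by
          show ηB (n + n') = ηB n + ηB n'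
          simp only [ηB, mΓ_add]
          exact map_add (((HensSch.rmor πB).adj.unit.app (TM N)).val.app (op (⊤ : Opens (PrimeSpectrum B)))).hom _ _
        map_smul' := fun a n => by
          show ηB (algebraMap A B a • n) = HSMul.hSMul (α := Sec Y ((Opens.map πB.base).obj ⊤))
            (pull φ ((Opens.map πA.base).obj ⊤) (pull πA ⊤ ((Scheme.ΓSpecIso (CommRingCat.of A)).inv.hom a))) (ηB n)
          rw [pull_inv hφ]
          simp only [ηB, mΓ_smul]
          exact pullSec_smul (HensSch.rmor πB) (TM N) (W := (⊤ : Opens (PrimeSpectrum B))) _ _ }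
  let hom : HensSch.sphTilde πA NA ⟶ FB := (adj.homEquiv NA FB).symm ψ
  have key : ∀ n : N, hom.val.app (op ((Opens.map πA.base).obj ⊤))
      (pullSec (HensSch.rmor πA) (TM NA) (U := (⊤ : Opens (PrimeSpectrum A))) (mΓ NA n)) = ηB n := fun n => by
    have h := (adj.homEquiv NA FB).apply_symm_apply ψ
    rw [Adjunction.homEquiv_unit] at h
    exact congrArg (fun k : NA ⟶ (HensSch.pushMod πA ⋙ moduleSpecΓFunctor (R := CommRingCat.of A)).obj FB => k.hom n) h
  haveI : Algebra.IsIntegral A B := Algebra.IsIntegral.of_finite A B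
  have hbij : ∀ f : A, Function.Bijective (hom.val.app (op (HensSch.dOpen πA f))).hom := by
    intro f
    let fB := algebraMap A B f
    let V := (Opens.map φ.base).obj (HensSch.dOpen πA f)
    have hVe : V = HensSch.dOpen πB fB := pre_eq hφ f
    let γ : SS πA f →+* SS πB fB := (res hVe.ge).comp (pull φ (HensSch.dOpen πA f))
    have hγ : γ.comp (algebraMap A (SS πA f)) = (algebraMap B (SS πB fB)).comp (algebraMap A B) :=
      RingHom.ext fun a => by
        show res hVe.ge (pull φ (HensSch.dOpen πA f) (res (show HensSch.dOpen πA f ≤ (Opens.map πA.base).obj ⊤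
            from fun _ _ => trivial) (pull πA ⊤ ((Scheme.ΓSpecIso (CommRingCat.of A)).inv.hom a)))) = _
        rw [pull_res, res_res, pull_inv hφ]
        rfl
    letI : Module A N := Module.compHom N (algebraMap A B)
    haveI : IsScalarTower A B N := IsScalarTower.of_algebraMap_smul fun _ _ => rfl
    have hA' : IsHA I f (algebraMap A (SS πA f)) := by
      refine isHA_of_isHensAway (A := A) (B := A) ?_
      rw [Algebra.algebraMap_self, Ideal.map_id]
      exact hX.2.2 f
    have hB' : IsHA I fB (algebraMap B (SS πB fB)) := isHA_of_isHensAway (hY.2.2 fB)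
    let q : ModSite.sect FB (HensSch.dOpen πA f) → ModSite.sect (FF πB N) (HensSch.dOpen πB fB) :=
      fun w => FlatRel25.res (FF πB N) (homOfLE hVe.ge) (show ModSite.sect (FF πB N) V from w)
    have hq : Function.Bijective q := by
      refine Function.bijective_iff_has_inverse.2
        ⟨fun w => FlatRel25.res (FF πB N) (homOfLE hVe.le) w, fun w => ?_, fun w => ?_⟩
      · exact ((FlatRel25.res_res (F := FF πB N) (homOfLE hVe.ge) (homOfLE hVe.le) _).trans
          (congrArg (fun k => FlatRel25.res (FF πB N) k _) (Subsingleton.elim _ (𝟙 V)))).trans (res_id (FF πB N) _)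
      · exact ((FlatRel25.res_res (F := FF πB N) (homOfLE hVe.le) (homOfLE hVe.ge) w).trans
          (congrArg (fun k => FlatRel25.res (FF πB N) k w) (Subsingleton.elim _ (𝟙 _)))).trans (res_id (FF πB N) _)
    have hcomp : ∀ z : SS πA f ⊗[A] NA, q ((hom.val.app (op (HensSch.dOpen πA f))).hom (θ πA NA f z)) =
        θ πB N fB (baseMap γ hγ N z) := by
      intro z
      have hadd : ∀ w w' : ModSite.sect FB (HensSch.dOpen πA f), q (w + w') = q w + q w' := fun w w' =>
        map_add (FlatRel25.res (FF πB N) (homOfLE hVe.ge)) _ _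
      induction z with
      | zero =>
        simp only [map_zero]
        exact map_zero (FlatRel25.res (FF πB N) (homOfLE hVe.ge))
      | add p p' hp hp' =>
        simp only [map_add]
        exact (hadd _ _).trans (congrArg₂ (· + ·) hp hp')
      | tmul c n =>
        rw [θ_tmul]
        show q _ = θ πB N fB (γ c ⊗ₜ[B] (n : N))
        rw [θ_tmul]
        refine (congrArg q ((hom.val.app (op (HensSch.dOpen πA f))).hom.map_smul c (mS πA NA f n))).trans ?_
        refine (FlatRel25.res_smul (F := FF πB N) (homOfLE hVe.ge) _ _).trans ?_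
        refine congrArg (γ c • ·) ?_
        have hn := PresheafOfModules.naturality_apply hom.val
          ((Opens.map πA.base).map (homOfLE (le_top : PrimeSpectrum.basicOpen f ≤ ⊤))).op
          (pullSec (HensSch.rmor πA) (TM NA) (U := (⊤ : Opens (PrimeSpectrum A))) (mΓ NA n))
        refine (congrArg (FlatRel25.res (FF πB N) (homOfLE hVe.ge)) hn).trans ?_
        refine (congrArg (FlatRel25.res (FF πB N) (homOfLE hVe.ge)) (congrArg _ (key n))).trans ?_
        refine (FlatRel25.res_res (F := FF πB N) ((Opens.map φ.base).map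
          ((Opens.map πA.base).map (homOfLE (le_top : PrimeSpectrum.basicOpen f ≤ ⊤)))) (homOfLE hVe.ge) (ηB n)).trans ?_
        exact congrArg (fun k => FlatRel25.res (FF πB N) k _) (Subsingleton.elim _ _)
    have h1 : Function.Bijective (q ∘ (hom.val.app (op (HensSch.dOpen πA f))).hom ∘ θ πA NA f) := by
      rw [show q ∘ (hom.val.app (op (HensSch.dOpen πA f))).hom ∘ θ πA NA f = θ πB N fB ∘ baseMap γ hγ N from
        funext hcomp]
      exact (sections hY N fB).bijective.comp (baseMap_bijective hA' hB' γ hγ N)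
    have h2 : Function.Bijective ((hom.val.app (op (HensSch.dOpen πA f))).hom ∘ θ πA NA f) :=
      (Function.Bijective.of_comp_iff' hq _).1 h1
    exact (Function.Bijective.of_comp_iff _ (sections hX NA f).bijective).1 h2
  haveI : IsIso hom := by
    have hbasis : Opens.IsBasis (Set.range fun f : A => HensSch.dOpen πA f) := by
      rw [Opens.isBasis_iff_nbhd]
      intro U x hx
      obtain ⟨f, hxf, hfU⟩ := exists_dOpen_le hX U x hx
      exact ⟨_, ⟨f, rfl⟩, hxf, hfU⟩
    haveI : IsIso ((SheafOfModules.toSheaf _).map hom) :=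
      TopCat.Sheaf.isIso_iff_isIso_basis hbasis fun f => by
        rw [ConcreteCategory.isIso_iff_bijective]
        exact hbij f
    exact isIso_of_reflects_iso hom (SheafOfModules.toSheaf _)
  exact ⟨asIso hom, fun n => key n⟩

end main

end GrothLib.HSphMod4
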