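import Groth.Agent.Lib.HSphMod4.Main

/-!
# Universal property of the sections, global sections, and push forward along finite maps
-/

set_option autoImplicit false
set_option maxHeartbeats 800000
set_option backward.isDefEq.respectTransparency false

universe u

open CategoryTheory Opposite TopologicalSpace AlgebraicGeometry TensorProduct

noncomputable section

namespace GrothLib.HSphMod4

open GrothLib.HensSpec GrothLib.PullLoc25

variable {A : Type u} [CommRing A] {I : Ideal A} {X : LocallyRingedSpace.{u}} {π : X ⟶ HensSch.specLRS A}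
  (M : ModuleCat.{u} A)

attribute [local instance] algSS

theorem θ_smul (f : A) (c : SS π f) (z : SS π f ⊗[A] M) : θ π M f (c • z) = c • θ π M f z := by
  induction z with
  | zero => simp only [smul_zero, map_zero]
  | add p q hp hq => simp only [smul_add, map_add, hp, hq]
  | tmul a b => rw [TensorProduct.smul_tmul', θ_tmul, θ_tmul, smul_eq_mul, mul_smul]

theorem existsUnique_lift (hX : HensSch.IsSph A I X π) (f : A) {P : Type u} [AddCommGroup P]
    [Module ((ModSite.ringSh X.sheaf).obj.obj (op (HensSch.dOpen π f))) P] (ψ : M →+ P)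
    (hψ : ∀ (a : A) (m : M), ψ (a • m) =
      HSMul.hSMul (α := ((ModSite.ringSh X.sheaf).obj.obj (op (HensSch.dOpen π f)) : Type u))
        (HensSch.secMap π (PrimeSpectrum.basicOpen f) a) (ψ m)) :
    ∃! χ : ((FF π M).val.obj (op (HensSch.dOpen π f))) →ₗ[(ModSite.ringSh X.sheaf).obj.obj (op (HensSch.dOpen π f))] P,
      ∀ m : M, χ (mS π M f m) = ψ m := by
  letI : Module (SS π f) P := ‹Module ((ModSite.ringSh X.sheaf).obj.obj (op (HensSch.dOpen π f))) P›
  let L : SS π f ⊗[A] M →+ P := TensorProduct.liftAddHom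
    (AddMonoidHom.mk' (fun c => AddMonoidHom.mk' (fun m => c • ψ m) (fun m m' => by rw [map_add, smul_add]))
      (fun c c' => AddMonoidHom.ext fun m => add_smul c c' (ψ m)))
    (fun a c m => by
      show (a • c) • ψ m = c • ψ (a • m)
      rw [hψ, Algebra.smul_def, mul_comm, mul_smul]
      rfl)
  have hLt : ∀ c m, L (c ⊗ₜ m) = c • ψ m := fun _ _ => rfl
  have hL : ∀ (c : SS π f) z, L (c • z) = c • L z := fun c z => by
    induction z with
    | zero => simp only [smul_zero, map_zero]
    | add p q hp hq => simp only [smul_add, map_add, hp, hq]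
    | tmul a b => rw [TensorProduct.smul_tmul', hLt, hLt, smul_eq_mul, mul_smul]
  let e := sections hX M f
  have he : ∀ z, θ π M f z = e z := fun _ => rfl
  have hsymm : ∀ (c : SS π f) w, e.symm (c • w) = c • e.symm w := fun c w => by
    apply e.injective
    rw [e.apply_symm_apply, ← he, θ_smul, he, e.apply_symm_apply]
  let χ : ((FF π M).val.obj (op (HensSch.dOpen π f))) →ₗ[(ModSite.ringSh X.sheaf).obj.obj (op (HensSch.dOpen π f))] P :=
    { toFun := fun w => L (e.symm w)
      map_add' := fun a b => (congrArg L (map_add e.symm a b)).trans (map_add L _ _)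
      map_smul' := fun c w => (congrArg L (hsymm c w)).trans (hL c _) }
  have h1 : ∀ m, θ π M f (1 ⊗ₜ m) = mS π M f m := fun m => by rw [θ_tmul, one_smul]
  refine ⟨χ, fun m => ?_, fun χ' hχ' => LinearMap.ext fun w => ?_⟩
  · show L (e.symm (mS π M f m)) = ψ m
    rw [← h1, he, e.symm_apply_apply, hLt, one_smul]
  · show χ' w = L (e.symm w)
    obtain ⟨z, rfl⟩ := e.surjective w
    rw [e.symm_apply_apply]
    induction z with
    | zero => simp only [map_zero]
    | add p q hp hq => simp only [map_add, hp, hq]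
    | tmul c m =>
      rw [← he, θ_tmul, hLt]
      exact (χ'.map_smul c _).trans (congrArg (c • ·) (hχ' m))

theorem bijective_algebraMap_one [HenselianRing A I] (hX : HensSch.IsSph A I X π) :
    Function.Bijective (algebraMap A (SS π (1 : A))) := by
  obtain ⟨hu, hh, huniv⟩ := hX.2.2 1
  obtain ⟨k, hk, -⟩ := huniv A I (RingHom.id A) inferInstance (le_of_eq (Ideal.map_id I)) isUnit_one
  have hk' : ∀ a, k (algebraMap A (SS π (1 : A)) a) = a := RingHom.congr_fun hk
  have e : (algebraMap A (SS π (1 : A))).comp k = RingHom.id (SS π (1 : A)) :=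
    (huniv (SS π (1 : A)) _ (algebraMap A (SS π (1 : A))) hh le_rfl hu).unique
      (RingHom.ext fun a => by
        show algebraMap A (SS π (1 : A)) (k (algebraMap A (SS π (1 : A)) a)) = _
        rw [hk']) rfl
  exact ⟨Function.LeftInverse.injective hk', fun s => ⟨k s, RingHom.congr_fun e s⟩⟩

theorem bijective_unit [HenselianRing A I] (hX : HensSch.IsSph A I X π) :
    Function.Bijective fun m : M =>
      pullSec (HensSch.rmor π) (TM M) (U := (⊤ : Opens (PrimeSpectrum A))) (mΓ M m) := by
  let l : A →ₗ[A] SS π (1 : A) := Algebra.linearMap A (SS π (1 : A))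
  let e1 : A ≃ₗ[A] SS π (1 : A) := LinearEquiv.ofBijective l (bijective_algebraMap_one hX)
  let e2 : M ≃ₗ[A] SS π (1 : A) ⊗[A] M :=
    (TensorProduct.lid A M).symm ≪≫ₗ TensorProduct.congr e1 (LinearEquiv.refl A M)
  have he2 : ∀ m, e2 m = (1 : SS π (1 : A)) ⊗ₜ[A] m := fun m => by
    show e1 1 ⊗ₜ[A] m = _
    rw [show e1 1 = algebraMap A (SS π (1 : A)) 1 from rfl, map_one]
  have hb : Function.Bijective fun m : M => mS π M 1 m := by
    have h := (sections hX M 1).bijective.comp e2.bijective
    convert h using 1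
    funext m
    show mS π M 1 m = θ π M 1 (e2 m)
    rw [he2, θ_tmul, one_smul]
  let i : (Opens.map π.base).obj (PrimeSpectrum.basicOpen (1 : A)) ⟶ (Opens.map π.base).obj ⊤ :=
    (Opens.map π.base).map (homOfLE le_top)
  let j : (Opens.map π.base).obj (⊤ : Opens (PrimeSpectrum A)) ⟶ (Opens.map π.base).obj (PrimeSpectrum.basicOpen (1 : A)) :=
    (Opens.map π.base).map (homOfLE (le_of_eq PrimeSpectrum.basicOpen_one.symm))
  have hj : ∀ t, FlatRel25.res (FF π M) j (FlatRel25.res (FF π M) i t) = t := fun t => by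
    rw [FlatRel25.res_res, Subsingleton.elim (j ≫ i) (𝟙 _)]
    exact res_id (FF π M) t
  refine ⟨fun a b hab => hb.1 (congrArg (FlatRel25.res (FF π M) i) hab), fun t => ?_⟩
  obtain ⟨m, hm⟩ := hb.2 (FlatRel25.res (FF π M) i t)
  refine ⟨m, ?_⟩
  exact ((hj _).symm.trans (congrArg (FlatRel25.res (FF π M) j) hm)).trans (hj t)

theorem full_faithful [HenselianRing A I] (hX : HensSch.IsSph A I X π) :
    (HensSch.sphTildeFunctor π).Full ∧ (HensSch.sphTildeFunctor π).Faithful := by
  let adj : HensSch.sphTildeFunctor π ⊣ HensSch.pushMod π ⋙ moduleSpecΓFunctor (R := CommRingCat.of A) :=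
    (tilde.adjunction (R := CommRingCat.of A)).comp (HensSch.pullPushAdj π)
  haveI : ∀ N, IsIso (adj.unit.app N) := fun N => by
    rw [ConcreteCategory.isIso_iff_bijective]
    exact bijective_unit N hX
  haveI : IsIso adj.unit := NatIso.isIso_of_isIso_app adj.unit
  exact ⟨adj.fullyFaithfulLOfIsIsoUnit.full, adj.fullyFaithfulLOfIsIsoUnit.faithful⟩

end GrothLib.HSphMod4
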